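import Mathlib
import Cfsg.Agent.Lib.Helper19.KAlt.Defs
import Cfsg.Agent.Lib.Helper75.LW.All

set_option autoImplicit false

/-!
KALT (S0747) package [SEMIODD]: `k`-transitive, `(k+1)`-point stabilisers trivial, `k`-point
stabilisers nontrivial without involutions: then `n = k + 3` and `G` is `(k+1)`-transitive.
-/

namespace Cfsg.Agent.Lib.Helper87.KAlt

open Cfsg.Agent.Lib.Helper75.LW Cfsg.Agent.Lib.Helper19.KAlt

universe u

theorem pkgSemiOdd : PkgSemiOdd.{u} := by
  intro α _ _ G k hk hT hTr hNI hnT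
  classical
  have hn3 : Fintype.card α ≤ k + 3 := by
    by_contra hcon
    exact allSemi G k hk hT hTr hNI hnT (by omega)
  unfold Triv at hnT
  push_neg at hnT
  obtain ⟨s, hs, g0, hg0, hg0s, hg01⟩ := hnT
  have hK1 : Nat.card (PS G s) ≠ 1 := by
    intro h1
    rw [Subgroup.card_eq_one] at h1
    have h2 : g0 ∈ PS G s := ⟨hg0, hg0s⟩
    rw [h1, Subgroup.mem_bot] at h2
    exact hg01 h2
  have hkn : k < Fintype.card α := by
    by_contra hcon
    have hsu : s = Finset.univ := by
      apply Finset.eq_univ_of_card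
      have := Finset.card_le_univ s
      omega
    apply hg01
    ext a
    exact hg0s a (by rw [hsu]; exact Finset.mem_univ a)
  have hdvd : Nat.card (PS G s) ∣ Fintype.card α - s.card := allFree G s (by rw [hs]; exact hTr)
  have hodd : ¬ 2 ∣ Nat.card (PS G s) := by
    intro h2
    haveI : Fact (Nat.Prime 2) := ⟨Nat.prime_two⟩
    obtain ⟨x, hx⟩ := exists_prime_orderOf_dvd_card' 2 h2
    have hx2 : (x : Equiv.Perm α) * (x : Equiv.Perm α) = 1 := by
      have h3 := pow_orderOf_eq_one x
      rw [hx] at h3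
      have h4 := congrArg Subtype.val h3
      simpa [pow_two] using h4
    have hx1 := hNI s hs x.1 x.2.1 hx2 x.2.2
    have h5 : x = 1 := Subtype.ext hx1
    rw [h5, orderOf_one] at hx
    omega
  have hc3 : Nat.card (PS G s) = 3 ∧ Fintype.card α = k + 3 := by
    rw [hs] at hdvd
    have hpos : 0 < Fintype.card α - k := by omega
    have hle := Nat.le_of_dvd hpos hdvd
    have hcpos : 0 < Nat.card (PS G s) := Nat.card_pos
    obtain ⟨m, hm⟩ : ∃ m, m = Fintype.card α - k := ⟨_, rfl⟩
    obtain ⟨c, hc⟩ : ∃ c, c = Nat.card (PS G s) := ⟨_, rfl⟩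
    rw [← hm, ← hc] at hdvd hle
    rw [← hm] at hpos
    rw [← hc] at hK1 hodd hcpos ⊢
    have hm3 : m ≤ 3 := by omega
    interval_cases m <;> interval_cases c <;> omega
  obtain ⟨hc3, hn⟩ := hc3
  have hall : ∀ s' : Finset α, s'.card = k → Nat.card (PS G s') = 3 := by
    intro s' hs'
    have h1 := allCntT G k s hs hT
    have h2 := allCntT G k s' hs' hT
    rw [h1, hc3] at h2
    have hpos : 0 < (Fintype.card α).descFactorial k := by
      rw [Nat.pos_iff_ne_zero, Ne, Nat.descFactorial_eq_zero_iff_lt]; omega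
    exact (Nat.eq_of_mul_eq_mul_left hpos h2).symm
  have htr : ∀ s' : Finset α, s'.card = k → ∀ u v : α, u ∉ s' → v ∉ s' →
      ∃ g ∈ PS G s', g u = v := by
    intro s' hs' u v hu hv
    have hfix : ∀ g ∈ PS G s', g u ∉ s' := by
      intro g hg hgu
      have h1 := hg.2 (g u) hgu
      have h2 := g.injective h1
      rw [h2] at hgu
      exact hu hgu
    let f : ↥(PS G s') → {a : α // a ∉ s'} := fun g => ⟨g.1 u, hfix g.1 g.2⟩
    have hinj : Function.Injective f := by
      intro g h hgh
      have h1 : g.1 u = h.1 u := congrArg Subtype.val hgh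
      have h2 : (h.1)⁻¹ * g.1 = 1 := by
        apply hTr (insert u s') (by rw [Finset.card_insert_of_notMem hu, hs'])
        · exact G.mul_mem (G.inv_mem h.2.1) g.2.1
        · intro a ha
          rw [Finset.mem_insert] at ha
          rcases ha with rfl | ha
          · rw [Equiv.Perm.mul_apply, h1]; simp
          · rw [Equiv.Perm.mul_apply, g.2.2 a ha, Equiv.Perm.inv_eq_iff_eq]
            exact (h.2.2 a ha).symm
      apply Subtype.ext
      exact (inv_mul_eq_one.1 h2).symm
    have hcard : Nat.card ↥(PS G s') = Nat.card {a : α // a ∉ s'} := by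
      rw [hall s' hs', Nat.card_eq_fintype_card, Fintype.card_subtype_compl, Fintype.card_coe,
        hs', hn]
      omega
    have hbij := (Nat.bijective_iff_injective_and_card f).2 ⟨hinj, hcard⟩
    obtain ⟨g, hg⟩ := hbij.2 ⟨v, hv⟩
    exact ⟨g.1, g.2, congrArg Subtype.val hg⟩
  intro x y
  let x' : Fin k ↪ α :=
    ⟨fun i => x i.castSucc, fun i j hij => Fin.castSucc_injective k (x.injective hij)⟩
  let y' : Fin k ↪ α :=
    ⟨fun i => y i.castSucc, fun i j hij => Fin.castSucc_injective k (y.injective hij)⟩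
  obtain ⟨g1, hg1, hg1x⟩ := hT x' y'
  have hs' : (Finset.univ.map y').card = k := by simp
  have hu : g1 (x (Fin.last k)) ∉ Finset.univ.map y' := by
    intro hmem
    obtain ⟨i, -, hi⟩ := Finset.mem_map.1 hmem
    have h1 : g1 (x i.castSucc) = g1 (x (Fin.last k)) := by rw [← hi]; exact hg1x i
    have h2 := x.injective (g1.injective h1)
    exact (Fin.castSucc_lt_last i).ne h2
  have hv : y (Fin.last k) ∉ Finset.univ.map y' := by
    intro hmem
    obtain ⟨i, -, hi⟩ := Finset.mem_map.1 hmem
    have h2 : i.castSucc = Fin.last k := y.injective hi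
    exact (Fin.castSucc_lt_last i).ne h2
  obtain ⟨g2, hg2, hg2u⟩ := htr _ hs' _ _ hu hv
  refine ⟨g2 * g1, G.mul_mem hg2.1 hg1, fun i => ?_⟩
  induction i using Fin.lastCases with
  | last => rw [Equiv.Perm.mul_apply]; exact hg2u
  | cast i =>
    rw [Equiv.Perm.mul_apply]
    have h1 : g1 (x i.castSucc) = y i.castSucc := hg1x i
    rw [h1]
    exact hg2.2 _ (Finset.mem_map.2 ⟨i, Finset.mem_univ i, rfl⟩)

end Cfsg.Agent.Lib.Helper87.KAlt
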