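import Mathlib
import Cfsg.Agent.Lib.Helper19.KAlt.Defs
import Cfsg.Agent.Lib.Helper75.LW.All

set_option autoImplicit false

/-!
KALT (S0747) package [TRANS]: a `j`-transitive group induces the symmetric group on every `j`-set.
-/

namespace Cfsg.Agent.Lib.Helper87.KAlt

open Cfsg.Agent.Lib.Helper75.LW Cfsg.Agent.Lib.Helper19.KAlt

universe u

theorem pkgTrans : PkgTrans.{u} := by
  intro α _ _ G j hT Δ hΔ σ
  obtain ⟨g, hg, hgφ⟩ := allExt G j Δ (fun a => if h : a ∈ Δ then ((σ ⟨a, h⟩ : ↥Δ) : α) else a) hΔ hT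
    (by
      intro a ha b hb hab
      have ha' : a ∈ Δ := ha
      have hb' : b ∈ Δ := hb
      simp only [dif_pos ha', dif_pos hb'] at hab
      have h1 : σ ⟨a, ha'⟩ = σ ⟨b, hb'⟩ := Subtype.ext hab
      have h2 := σ.injective h1
      exact congrArg Subtype.val h2)
  refine ⟨g, hg, fun x => ?_⟩
  rw [hgφ x.1 x.2, dif_pos x.2]

end Cfsg.Agent.Lib.Helper87.KAlt
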